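/-
The two parabolic normalisers of elementary abelian subgroups of order 16 in L3(4).
-/
import Cfsg.Agent.Lib.Cover.PSL34
import Cfsg.Agent.Lib.Classical.SL
import Cfsg.Agent.Lib.Classical.TwoByTwo
import Cfsg.Agent.Lib.LinearBlock.PSL34

set_option autoImplicit false

namespace Cfsg.Agent.CoverThreeFour

open Matrix PSL34Cover

variable {F : Type*} [Field F]

/-- The quotient map. -/
abbrev ψ : SpecialLinearGroup (Fin 3) F →* ProjectiveSpecialLinearGroup (Fin 3) F := QuotientGroup.mk' _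

/-- The lower block embedding. -/
def emb : SpecialLinearGroup (Fin 2) F →* SpecialLinearGroup (Fin 3) F :=
  MonoidHom.mk' (fun g => ⟨!![1, 0, 0; 0, g.1 0 0, g.1 0 1; 0, g.1 1 0, g.1 1 1], by
    have := g.2
    rw [Matrix.det_fin_two] at this
    rw [det_fin_three]
    simp
    linear_combination this⟩) fun g h => by
    refine Subtype.ext ?_
    show _ = !![1, 0, 0; 0, g.1 0 0, g.1 0 1; 0, g.1 1 0, g.1 1 1] *
      !![1, 0, 0; 0, h.1 0 0, h.1 0 1; 0, h.1 1 0, h.1 1 1]
    ext i j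
    fin_cases i <;> fin_cases j <;>
      simp [Matrix.SpecialLinearGroup.coe_mul, Matrix.mul_apply, Fin.sum_univ_three, Fin.sum_univ_two]

theorem emb_coe (g : SpecialLinearGroup (Fin 2) F) :
    (emb g).1 = !![1, 0, 0; 0, g.1 0 0, g.1 0 1; 0, g.1 1 0, g.1 1 1] := rfl

theorem center_scalar {g : SpecialLinearGroup (Fin 3) F}
    (hg : g ∈ Subgroup.center (SpecialLinearGroup (Fin 3) F)) : ∃ l : F, l ^ 3 = 1 ∧ g.1 = l • 1 := by
  obtain ⟨l, hl, hg'⟩ := (Matrix.SpecialLinearGroup.mem_center_iff).1 hg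
  refine ⟨l, by simpa using hl, ?_⟩
  rw [← hg']
  ext i j
  simp [Matrix.scalar_apply, Matrix.diagonal_apply, Matrix.one_apply]

theorem ψ_eq_iff {g h : SpecialLinearGroup (Fin 3) F} (e : ψ g = ψ h) :
    ∃ l : F, l ^ 3 = 1 ∧ g.1 = l • h.1 := by
  obtain ⟨l, hl, hl'⟩ := center_scalar ((QuotientGroup.eq (s := Subgroup.center _)).1 e.symm)
  refine ⟨l, hl, ?_⟩
  have : g.1 = h.1 * (h⁻¹ * g).1 := by
    rw [← Matrix.SpecialLinearGroup.coe_mul, mul_inv_cancel_left]
  rw [this, hl', mul_smul_comm, mul_one]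

theorem ψ_emb_injective : Function.Injective (ψ.comp (emb (F := F))) := by
  intro g h e
  obtain ⟨l, -, hl⟩ := ψ_eq_iff (show ψ (emb g) = ψ (emb h) from e)
  rw [emb_coe, emb_coe] at hl
  have h00 := congrFun (congrFun hl 0) 0
  simp at h00
  subst h00
  rw [one_smul] at hl
  refine Subtype.ext ?_
  ext i j
  fin_cases i <;> fin_cases j
  · simpa using congrFun (congrFun hl 1) 1
  · simpa using congrFun (congrFun hl 1) 2
  · simpa using congrFun (congrFun hl 2) 1
  · simpa using congrFun (congrFun hl 2) 2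

theorem ψ_uni_inj {a b c a' b' c' : F} (e : ψ (uni a b c) = ψ (uni a' b' c')) :
    a = a' ∧ b = b' ∧ c = c' := by
  obtain ⟨l, -, hl⟩ := ψ_eq_iff e
  rw [coe_uni, coe_uni] at hl
  have h00 := congrFun (congrFun hl 0) 0
  simp at h00
  subst h00
  rw [one_smul] at hl
  exact uni_inj (Subtype.ext hl)

/-- The first elementary abelian subgroup. -/
def Row : Subgroup (ProjectiveSpecialLinearGroup (Fin 3) F) where
  carrier := Set.range fun v : F × F => ψ (uni v.1 v.2 0)
  one_mem' := ⟨0, by simp [uni_zero]⟩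
  mul_mem' := by
    rintro _ _ ⟨u, rfl⟩ ⟨v, rfl⟩
    exact ⟨u + v, by simp only; rw [← map_mul, uni_mul]; simp⟩
  inv_mem' := by
    rintro _ ⟨u, rfl⟩
    refine ⟨-u, eq_inv_of_mul_eq_one_left ?_⟩
    simp only
    rw [← map_mul, uni_mul]
    simp [uni_zero]

/-- The image of the unitriangular group. -/
def Uimg : Subgroup (ProjectiveSpecialLinearGroup (Fin 3) F) := (Usub (F := F)).map ψ

theorem mem_Uimg {x : ProjectiveSpecialLinearGroup (Fin 3) F} :
    x ∈ Uimg ↔ ∃ a b c : F, x = ψ (uni a b c) := by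
  constructor
  · rintro ⟨_, ⟨p, rfl⟩, rfl⟩; exact ⟨_, _, _, rfl⟩
  · rintro ⟨a, b, c, rfl⟩; exact ⟨_, ⟨(a, b, c), rfl⟩, rfl⟩

theorem row_le : Row (F := F) ≤ Uimg := by
  rintro _ ⟨v, rfl⟩; exact mem_Uimg.2 ⟨_, _, _, rfl⟩

theorem card_row : Nat.card (Row (F := F)) = Nat.card F * Nat.card F := by
  rw [show Nat.card (Row (F := F)) = Nat.card (Set.range fun v : F × F => ψ (uni v.1 v.2 0)) from rfl,
    Nat.card_range_of_injective, Nat.card_prod]
  intro u v e
  obtain ⟨h1, h2, -⟩ := ψ_uni_inj e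
  exact Prod.ext h1 h2

theorem det_blk {g : SpecialLinearGroup (Fin 3) F} (h1 : g.1 1 0 = 0) (h2 : g.1 2 0 = 0) :
    g.1 0 0 * (g.1 1 1 * g.1 2 2 - g.1 1 2 * g.1 2 1) = 1 := by
  have := g.2
  rw [det_fin_three, h1, h2] at this
  linear_combination this

/-- The normaliser of the first subgroup. -/
theorem mem_normalizer_row (hcube : ∀ l : F, l ≠ 0 → l ^ 3 = 1) {g : SpecialLinearGroup (Fin 3) F}
    (hg : ψ g ∈ Subgroup.normalizer (Row (F := F) : Set (ProjectiveSpecialLinearGroup (Fin 3) F))) :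
    ∃ a b : F, ∃ M : SpecialLinearGroup (Fin 2) F, ψ g = ψ (uni a b 0) * ψ (emb M) := by
  obtain ⟨⟨a, b⟩, hab⟩ := (Subgroup.mem_normalizer_iff.1 hg (ψ (uni 1 0 0))).1 ⟨(1, 0), rfl⟩
  simp only at hab
  rw [← map_inv, ← map_mul, ← map_mul] at hab
  obtain ⟨l, hl3, hl⟩ := ψ_eq_iff hab.symm
  have heq : g.1 * (uni 1 0 0 : SpecialLinearGroup (Fin 3) F).1 =
      l • ((uni a b 0 : SpecialLinearGroup (Fin 3) F).1 * g.1) := by
    rw [← smul_mul_assoc, ← hl, ← Matrix.SpecialLinearGroup.coe_mul, ← Matrix.SpecialLinearGroup.coe_mul,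
      inv_mul_cancel_right]
  rw [coe_uni, coe_uni] at heq
  have e10 := congrFun (congrFun heq 1) 0
  have e20 := congrFun (congrFun heq 2) 0
  have e11 := congrFun (congrFun heq 1) 1
  have e21 := congrFun (congrFun heq 2) 1
  simp [Matrix.mul_apply, Fin.sum_univ_three, vecMul, dotProduct] at e10 e20 e11 e21
  have hz : g.1 1 0 = 0 ∧ g.1 2 0 = 0 := by
    by_cases h1 : l = 1
    · subst h1
      simp at e11 e21
      exact ⟨by linear_combination e11, by linear_combination e21⟩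
    · exact ⟨(mul_eq_zero.1 (show (1 - l) * g.1 1 0 = 0 by linear_combination e10)).resolve_left
          (sub_ne_zero.2 (Ne.symm h1)),
        (mul_eq_zero.1 (show (1 - l) * g.1 2 0 = 0 by linear_combination e20)).resolve_left
          (sub_ne_zero.2 (Ne.symm h1))⟩
  have hd := det_blk hz.1 hz.2
  set α := g.1 0 0 with hα
  have hα0 : α ≠ 0 := fun h => by rw [h, zero_mul] at hd; exact zero_ne_one hd
  have hα3 := hcube α hα0
  -- rescale so that the corner entry is one
  let M : SpecialLinearGroup (Fin 2) F :=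
    ⟨!![α * α * g.1 1 1, α * α * g.1 1 2; α * α * g.1 2 1, α * α * g.1 2 2], by
      rw [Matrix.det_fin_two]; simp
      linear_combination (α ^ 3) * hd + hα3⟩
  refine ⟨(α * α * g.1 0 1) * M.1 1 1 - (α * α * g.1 0 2) * M.1 1 0,
    (α * α * g.1 0 2) * M.1 0 0 - (α * α * g.1 0 1) * M.1 0 1, M, ?_⟩
  rw [← map_mul]
  symm
  refine (QuotientGroup.eq (s := Subgroup.center _)).2 ?_
  set R := uni ((α * α * g.1 0 1) * M.1 1 1 - (α * α * g.1 0 2) * M.1 1 0)
    ((α * α * g.1 0 2) * M.1 0 0 - (α * α * g.1 0 1) * M.1 0 1) 0 * emb M with hR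
  have hRg : R.1 = (α * α) • g.1 := by
    have hM := M.2
    rw [Matrix.det_fin_two] at hM
    rw [hR, Matrix.SpecialLinearGroup.coe_mul, coe_uni, emb_coe]
    ext i j
    fin_cases i <;> fin_cases j <;> simp [Matrix.mul_apply, Fin.sum_univ_three, hz.1, hz.2]
    all_goals first
      | linear_combination (-1 : F) * hα3
      | linear_combination hα3
      | linear_combination (α * α * g.1 0 1) * hM
      | linear_combination (α * α * g.1 0 2) * hM
      | simp [M]
  have hval : (R⁻¹ * g).1 = α • 1 := by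
    have h1 : g.1 = α • R.1 := by
      rw [hRg, smul_smul, show α * (α * α) = 1 by linear_combination hα3, one_smul]
    rw [Matrix.SpecialLinearGroup.coe_mul, h1, mul_smul_comm, ← Matrix.SpecialLinearGroup.coe_mul,
      inv_mul_cancel, Matrix.SpecialLinearGroup.coe_one]
  refine Matrix.SpecialLinearGroup.mem_center_iff.2 ⟨α, by simpa using hα3, ?_⟩
  rw [hval]
  ext i j
  simp [Matrix.scalar_apply, Matrix.diagonal_apply, Matrix.one_apply]

theorem uni_mem_normalizer (a b : F) (M : SpecialLinearGroup (Fin 2) F) :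
    ψ (emb M) * ψ (uni a b 0) * (ψ (emb M))⁻¹ ∈ Row (F := F) := by
  refine ⟨(a * M.1 1 1 - b * M.1 1 0, b * M.1 0 0 - a * M.1 0 1), ?_⟩
  simp only
  rw [eq_mul_inv_iff_mul_eq, ← map_mul, ← map_mul]
  congr 1
  refine Subtype.ext ?_
  rw [Matrix.SpecialLinearGroup.coe_mul, Matrix.SpecialLinearGroup.coe_mul, coe_uni, coe_uni, emb_coe]
  have hM := M.2
  rw [Matrix.det_fin_two] at hM
  ext i j
  fin_cases i <;> fin_cases j <;> simp [Matrix.mul_apply, Fin.sum_univ_three]
  all_goals first | linear_combination a * hM | linear_combination b * hM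

theorem row_inter_emb {M : SpecialLinearGroup (Fin 2) F} (h : ψ (emb M) ∈ Row (F := F)) : M = 1 := by
  obtain ⟨⟨a, b⟩, e⟩ := h
  obtain ⟨l, -, hl⟩ := ψ_eq_iff e.symm
  simp only at hl
  rw [emb_coe, coe_uni] at hl
  have h00 := congrFun (congrFun hl 0) 0
  simp at h00
  subst h00
  rw [one_smul] at hl
  refine Subtype.ext ?_
  ext i j
  fin_cases i <;> fin_cases j
  · simpa using congrFun (congrFun hl 1) 1
  · simpa using congrFun (congrFun hl 1) 2
  · simpa using congrFun (congrFun hl 2) 1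
  · simpa using congrFun (congrFun hl 2) 2

/-- Antidiagonal permutation. -/
def rev3 (i : Fin 3) : Fin 3 := ![2, 1, 0] i

theorem rev3_rev3 (i : Fin 3) : rev3 (rev3 i) = i := by fin_cases i <;> rfl

theorem det_rev3 (g : Matrix.SpecialLinearGroup (Fin 3) F) :
    (((g⁻¹ : Matrix.SpecialLinearGroup (Fin 3) F).1ᵀ).submatrix rev3 rev3).det = 1 := by
  rw [show rev3 = ⇑(⟨rev3, rev3, rev3_rev3, rev3_rev3⟩ : Fin 3 ≃ Fin 3) from rfl,
    Matrix.det_submatrix_equiv_self, Matrix.det_transpose]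
  exact (g⁻¹).2

/-- The graph automorphism as a homomorphism. -/
def graphHom : Matrix.SpecialLinearGroup (Fin 3) F →* Matrix.SpecialLinearGroup (Fin 3) F :=
  MonoidHom.mk' (fun g => ⟨_, det_rev3 g⟩) fun g h => by
    refine Subtype.ext ?_
    show ((g * h)⁻¹.1ᵀ).submatrix rev3 rev3 =
      ((g⁻¹).1ᵀ).submatrix rev3 rev3 * ((h⁻¹).1ᵀ).submatrix rev3 rev3
    rw [_root_.mul_inv_rev, Matrix.SpecialLinearGroup.coe_mul, Matrix.transpose_mul,
      Matrix.submatrix_mul _ _ rev3 rev3 rev3 (Function.Involutive.bijective rev3_rev3)]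

theorem graphHom_val (g : Matrix.SpecialLinearGroup (Fin 3) F) :
    (graphHom g).1 = ((g⁻¹ : Matrix.SpecialLinearGroup (Fin 3) F).1ᵀ).submatrix rev3 rev3 := rfl

theorem graphHom_graphHom (g : Matrix.SpecialLinearGroup (Fin 3) F) : graphHom (graphHom g) = g := by
  refine Subtype.ext ?_
  rw [graphHom_val, ← map_inv, graphHom_val, inv_inv]
  ext i j
  simp [rev3_rev3]

/-- The graph automorphism. -/
def graph : Matrix.SpecialLinearGroup (Fin 3) F ≃* Matrix.SpecialLinearGroup (Fin 3) F :=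
  { graphHom with
    invFun := graphHom
    left_inv := graphHom_graphHom
    right_inv := graphHom_graphHom }

theorem graph_uni (h2 : ∀ x : F, -x = x) (a b c : F) :
    graph (uni a b c) = uni c (b + a * c) a := by
  refine Subtype.ext ?_
  show ((uni a b c)⁻¹.1ᵀ).submatrix rev3 rev3 = _
  rw [show (uni a b c)⁻¹ = uni a (b + a * c) c from inv_eq_of_mul_eq_one_right (by
    have h0 : ∀ x : F, x + x = 0 := fun x => by nth_rewrite 2 [← h2 x]; exact add_neg_cancel x
    rw [uni_mul, h0, h0, ← uni_zero]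
    congr 1
    linear_combination h0 b + h0 (a * c)), coe_uni, coe_uni]
  ext i j
  fin_cases i <;> fin_cases j <;> simp [rev3]

/-- The graph automorphism of the projective group. -/
def pgraph : ProjectiveSpecialLinearGroup (Fin 3) F ≃* ProjectiveSpecialLinearGroup (Fin 3) F :=
  QuotientGroup.congr _ _ (graph (F := F)) (by
    ext x
    rw [Subgroup.mem_map]
    constructor
    · rintro ⟨y, hy, rfl⟩
      refine Subgroup.mem_center_iff.2 fun z => ?_
      obtain ⟨z, rfl⟩ := (graph (F := F)).surjective z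
      exact (map_mul _ _ _).symm.trans ((congrArg _ (Subgroup.mem_center_iff.1 hy z)).trans (map_mul _ _ _))
    · intro hx
      refine ⟨(graph (F := F)).symm x, Subgroup.mem_center_iff.2 fun z => (graph (F := F)).injective ?_,
        (graph (F := F)).apply_symm_apply x⟩
      rw [map_mul, map_mul, MulEquiv.apply_symm_apply, Subgroup.mem_center_iff.1 hx])

theorem pgraph_ψ (g : SpecialLinearGroup (Fin 3) F) : pgraph (ψ g) = ψ (graph g) := rfl

theorem elementary_in_U (h2 : ∀ x : F, x + x = 0) {A : Subgroup (ProjectiveSpecialLinearGroup (Fin 3) F)}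
    (hA : A ≤ Uimg) (hsq : ∀ x ∈ A, x * x = 1) :
    A ≤ Row ∨ A ≤ Row.comap (pgraph (F := F)).toMonoidHom := by
  have hn : ∀ x : F, -x = x := fun x => neg_eq_of_add_eq_zero_left (h2 x)
  by_contra hc
  push Not at hc
  obtain ⟨x, hx, hxR⟩ := SetLike.not_le_iff_exists.1 hc.1
  obtain ⟨y, hy, hyR⟩ := SetLike.not_le_iff_exists.1 hc.2
  obtain ⟨a, b, c, rfl⟩ := mem_Uimg.1 (hA hx)
  obtain ⟨a', b', c', rfl⟩ := mem_Uimg.1 (hA hy)
  have sqz : ∀ p q r : F, ψ (uni p q r) ∈ A → p * r = 0 := by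
    intro p q r h
    have h1 := hsq _ h
    rw [← map_mul, uni_mul] at h1
    obtain ⟨-, h3, -⟩ := ψ_uni_inj (a' := 0) (b' := 0) (c' := 0) (h1.trans (by rw [uni_zero, map_one]))
    rwa [h2, zero_add] at h3
  have hc0 : c ≠ 0 := fun h => hxR ⟨(a, b), by subst h; rfl⟩
  have ha'0 : a' ≠ 0 := fun h => hyR (Subgroup.mem_comap.2 ⟨(c', b' + a' * c'), by
    subst h
    show _ = pgraph (ψ _)
    rw [pgraph_ψ, graph_uni hn]⟩)
  have ha : a = 0 := (mul_eq_zero.1 (sqz _ _ _ hx)).resolve_right hc0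
  have hc' : c' = 0 := (mul_eq_zero.1 (sqz _ _ _ hy)).resolve_left ha'0
  have h3 := A.mul_mem hx hy
  rw [← map_mul, uni_mul] at h3
  have := sqz _ _ _ h3
  rw [ha, hc', zero_add, add_zero] at this
  exact mul_ne_zero ha'0 hc0 this

theorem commutator_sl_two [Finite F] (hF : Nat.card F = 4) :
    commutator (SpecialLinearGroup (Fin 2) F) = ⊤ := by
  classical
  haveI := Fintype.ofFinite F
  obtain ⟨a, ha, ha2⟩ : ∃ a : F, a ≠ 0 ∧ a ^ 2 ≠ 1 := by
    by_contra hno
    push Not at hno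
    have : Finset.univ ⊆ ({0, 1, -1} : Finset F) := fun a _ => by
      rcases eq_or_ne a 0 with rfl | ha
      · simp
      · rcases sq_eq_one_iff.1 (hno a ha) with rfl | rfl <;> simp
    have hle := (Finset.card_le_card this).trans Finset.card_le_three
    rw [Finset.card_univ, ← Nat.card_eq_fintype_card, hF] at hle
    omega
  rw [eq_top_iff, ← ClassicalSL.closure_elemTransvections, Subgroup.closure_le]
  rintro g ⟨i, j, h, c, rfl⟩
  rw [SetLike.mem_coe, commutator_eq_closure]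
  exact Subgroup.subset_closure (ClassicalSL.transvection_mem_commutatorSet_of_sq h ha ha2 c)

end Cfsg.Agent.CoverThreeFour
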