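/-
Elementary abelian subgroups and complements in the 2-covers of L3(4).
-/
import Cfsg.Agent.Lib.CoverThreeFour.Matrices
import Cfsg.Prelude.Def_Transfer

set_option autoImplicit false

namespace Cfsg.Agent.CoverThreeFour

open Matrix PSL34Cover ElementaryCover
open scoped commutatorElement

variable {F : Type*} [Field F] [Fintype F] {X : Type*} [Group X] [Finite X]

theorem two_zero' (hF : Fintype.card F = 4) (x : F) : x + x = 0 := by
  rw [← two_mul, LinearBlock.PSL34.two_eq_zero hF, zero_mul]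

theorem card_two (hF : Fintype.card F = 4) : Nat.card (Matrix.SpecialLinearGroup (Fin 2) F) = 60 := by
  rw [TwoByTwo.card_sl_two, Nat.card_eq_fintype_card, hF]; norm_num

/-- The root subgroup of SL2. -/
def rootHom : Multiplicative F →* Matrix.SpecialLinearGroup (Fin 2) F :=
  MonoidHom.mk' (fun t => ⟨!![1, t.toAdd; 0, 1], by simp [Matrix.det_fin_two]⟩) fun s t => Subtype.ext (by
    show _ = !![1, s.toAdd; 0, 1] * !![1, t.toAdd; 0, 1]
    ext i j; fin_cases i <;> fin_cases j <;> simp [Matrix.mul_apply, Fin.sum_univ_two, add_comm])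

omit [Fintype F] in
theorem rootHom_coe (t : Multiplicative F) : (rootHom t).1 = !![1, t.toAdd; 0, 1] := rfl

theorem row_cover (hF : Fintype.card F = 4) (π : X →* ProjectiveSpecialLinearGroup (Fin 3) F)
    (hπ : Function.Surjective π) (hZc : π.ker ≤ Subgroup.center X) (hZ2 : ∀ z ∈ π.ker, z * z = 1) :
    ∀ x ∈ (Row (F := F)).comap π, x * x = 1 := by
  classical
  have h2 := two_zero' hF
  obtain ⟨w, hw0, hw1⟩ : ∃ w : F, w ≠ 0 ∧ w ≠ 1 := by
    by_contra hne
    push Not at hne
    have hle : (Finset.univ : Finset F).card ≤ ({0, 1} : Finset F).card :=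
      Finset.card_le_card fun a _ => by
        rcases eq_or_ne a 0 with rfl | ha
        · simp
        · simp [hne a ha]
    rw [Finset.card_univ, hF] at hle
    exact absurd (hle.trans Finset.card_le_two) (by norm_num)
  have h1w : (1 : F) + w ≠ 0 := fun h => hw1 (by linear_combination h - h2 1)
  intro x hx
  obtain ⟨v, hv⟩ := Subgroup.mem_comap.1 hx
  refine squares_trivial π (fun v : F × F => ψ (uni v.1 v.2 0)) hπ hZc hZ2 ?_ ?_
    (fun u => Prod.ext (h2 _) (h2 _)) (1, 0) ?_ ?_ x ⟨v, hv.symm⟩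
  · show ψ (uni 0 0 0) = 1
    rw [uni_zero, map_one]
  · intro u v
    rw [← map_mul, uni_mul]
    simp
  · intro v hv
    obtain ⟨g, hg⟩ := trans_row (a := v.1) (b := v.2) (fun h => hv (Prod.ext h.1 h.2)) h2
    exact ⟨ψ g, by rw [← map_inv, ← map_mul, ← map_mul, hg]⟩
  · exact ⟨(1, 0), (0, 1), (w, 0), by simp, by simp, by simp [hw0], by simp, by simp, by simp [h1w],
      by simp⟩

theorem row_elementary (hF : Fintype.card F = 4) (π : X →* ProjectiveSpecialLinearGroup (Fin 3) F)
    (hπ : Function.Surjective π) (hZc : π.ker ≤ Subgroup.center X) (hZ2 : ∀ z ∈ π.ker, z * z = 1) :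
    Cfsg.IsElementaryAbelian 2 ((Row (F := F)).comap π) := by
  have hsq := row_cover hF π hπ hZc hZ2
  refine ⟨⟨⟨fun a b => Subtype.ext ?_⟩⟩, fun a ha => by rw [pow_two]; exact hsq a ha⟩
  exact commute_of_squares (hsq _ a.2) (hsq _ b.2) (hsq _ (mul_mem a.2 b.2))

theorem pgraph_comp_facts (π : X →* ProjectiveSpecialLinearGroup (Fin 3) F) (hπ : Function.Surjective π) :
    Function.Surjective ((pgraph (F := F)).toMonoidHom.comp π) ∧
      ((pgraph (F := F)).toMonoidHom.comp π).ker = π.ker :=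
  ⟨(pgraph (F := F)).surjective.comp hπ, by
    ext x; exact (pgraph (F := F)).map_eq_one_iff⟩

theorem row_complement (hF : Fintype.card F = 4) (π : X →* ProjectiveSpecialLinearGroup (Fin 3) F)
    (hπ : Function.Surjective π) (hZc : π.ker ≤ Subgroup.center X) (hZ2 : ∀ z ∈ π.ker, z * z = 1) :
    ∃ C : Subgroup X, C ≤ Subgroup.normalizer ((Row (F := F)).comap π : Set X) ∧
      C ⊓ (Row (F := F)).comap π = ⊥ ∧
      (Row (F := F)).comap π ⊔ C = Subgroup.normalizer ((Row (F := F)).comap π : Set X) ∧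
      Nonempty (↥C ≃* Matrix.ProjectiveSpecialLinearGroup (Fin 2) F) := by
  classical
  have h2 := two_zero' hF
  have hn : ∀ x : F, -x = x := fun x => neg_eq_of_add_eq_zero_left (h2 x)
  have hcube : ∀ l : F, l ≠ 0 → l ^ 3 = 1 := fun l hl => LinearBlock.PSL34.cube_eq_one hF hl
  set H := (Row (F := F)).comap π with hH
  set Cb := ((ψ (F := F)).comp emb).range with hCb
  set L := Cb.comap π with hL
  set M := ⁅L, L⁆ with hM
  have hLN : L ≤ Subgroup.normalizer (H : Set X) := by
    intro x hx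
    obtain ⟨g, hg⟩ := Subgroup.mem_comap.1 hx
    refine Subgroup.mem_normalizer_iff.2 fun y => ?_
    rw [Subgroup.mem_comap, Subgroup.mem_comap, map_mul, map_mul, map_inv, ← hg]
    show π y ∈ Row ↔ ψ (emb g) * π y * (ψ (emb g))⁻¹ ∈ Row
    refine ⟨?_, fun h => ?_⟩
    · rintro ⟨v, hv⟩
      simp only at hv
      rw [← hv]
      exact uni_mem_normalizer _ _ _
    · obtain ⟨v, hv⟩ := h
      simp only at hv
      have h3 := uni_mem_normalizer v.1 v.2 g⁻¹
      rw [map_inv, map_inv, hv] at h3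
      simpa [mul_assoc] using h3
  have hMmap : M.map π = Cb := by
    rw [hM, Subgroup.map_commutator, hL, Subgroup.map_comap_eq_self_of_surjective hπ, hCb,
      MonoidHom.range_eq_map, ← Subgroup.map_commutator, ← commutator_def,
      commutator_sl_two (by rw [Nat.card_eq_fintype_card, hF])]
  have hML : M ≤ L := Subgroup.commutator_le_self L
  -- M is perfect
  have hMperf : ⁅M, M⁆ = M := by
    refine le_antisymm (Subgroup.commutator_le_self M) ?_
    conv_lhs => rw [hM]
    rw [Subgroup.commutator_le]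
    intro a ha b hb
    have key : ∀ a ∈ L, ∃ m ∈ M, m⁻¹ * a ∈ Subgroup.center X := by
      intro a ha
      obtain ⟨m, hm, hme⟩ : π a ∈ M.map π := by rw [hMmap]; exact ha
      exact ⟨m, hm, hZc (by rw [MonoidHom.mem_ker, map_mul, map_inv, hme, inv_mul_cancel])⟩
    obtain ⟨m, hm, hmc⟩ := key a ha
    obtain ⟨m', hm', hmc'⟩ := key b hb
    have e1 : a = m * (m⁻¹ * a) := by group
    have e2 : b = m' * (m'⁻¹ * b) := by group
    set z := m⁻¹ * a
    set z' := m'⁻¹ * b
    have : ⁅a, b⁆ = ⁅m, m'⁆ := by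
      rw [e1, e2]
      have c1 := Subgroup.mem_center_iff.1 hmc
      have c2 := Subgroup.mem_center_iff.1 hmc'
      simp only [commutatorElement_def, _root_.mul_inv_rev]
      calc m * z * (m' * z') * (z⁻¹ * m⁻¹) * (z'⁻¹ * m'⁻¹)
          = m * (z * (m' * z')) * z⁻¹ * m⁻¹ * z'⁻¹ * m'⁻¹ := by group
        _ = m * ((m' * z') * z) * z⁻¹ * m⁻¹ * z'⁻¹ * m'⁻¹ := by rw [c1 (m' * z')]
        _ = m * m' * (z' * m⁻¹) * z'⁻¹ * m'⁻¹ := by group
        _ = m * m' * (m⁻¹ * z') * z'⁻¹ * m'⁻¹ := by rw [c2 m⁻¹]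
        _ = m * m' * m⁻¹ * m'⁻¹ := by group
    rw [this]
    exact Subgroup.commutator_mem_commutator hm hm'
  -- M meets the kernel trivially
  obtain ⟨hgs, hgk⟩ := pgraph_comp_facts π hπ
  have hsq' := row_cover hF _ hgs (hgk.symm ▸ hZc) (hgk.symm ▸ hZ2)
  let rt : Multiplicative F →* Matrix.SpecialLinearGroup (Fin 2) F := rootHom
  have hrt_inj : Function.Injective rt := fun s t h =>
    Multiplicative.toAdd.injective (by simpa [rt, rootHom_coe] using congrArg (fun g : Matrix.SpecialLinearGroup (Fin 2) F => g.1 0 1) h)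
  have hker : ∀ z ∈ M, π z = 1 → z = 1 := by
    intro z hzM hz
    let πM : M →* Cb := MonoidHom.mk' (fun m => ⟨π m, hMmap ▸ ⟨m, m.2, rfl⟩⟩) fun a b => Subtype.ext (map_mul π _ _)
    have hπM : Function.Surjective πM := by
      rintro ⟨y, hy⟩
      rw [← hMmap] at hy
      obtain ⟨m, hm, rfl⟩ := hy
      exact ⟨⟨m, hm⟩, rfl⟩
    let e2 : Matrix.SpecialLinearGroup (Fin 2) F ≃* Cb := MonoidHom.ofInjective ψ_emb_injective
    let Pb : Subgroup Cb := rt.range.map e2.toMonoidHom
    have hPb : Odd (Pb.comap πM).index := by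
      rw [Subgroup.index_comap_of_surjective _ hπM]
      have h := Pb.card_mul_index
      rw [show Nat.card Pb = Nat.card rt.range from Subgroup.card_map_of_injective (f := e2.toMonoidHom) e2.injective,
        ← Nat.card_congr (MonoidHom.ofInjective hrt_inj).toEquiv, ← Nat.card_congr e2.toEquiv, card_two hF,
        Nat.card_congr Multiplicative.toAdd, Nat.card_eq_fintype_card, hF] at h
      exact ⟨7, by omega⟩
    have hsqP : ∀ m ∈ Pb.comap πM, m * m = 1 := by
      rintro m ⟨_, ⟨t, rfl⟩, ht⟩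
      refine Subtype.ext (hsq' _ ?_)
      have ht' : π m = ψ (emb (rt t)) := (congrArg Subtype.val ht).symm
      refine Subgroup.mem_comap.2 ⟨(t.toAdd, 0), ?_⟩
      show ψ (uni t.toAdd 0 0) = pgraph (π m)
      rw [ht', pgraph_ψ]
      congr 1
      rw [show emb (rt t) = uni 0 0 t.toAdd from Subtype.ext (by
        rw [emb_coe, coe_uni]; ext i j; fin_cases i <;> fin_cases j <;> simp [rt, rootHom_coe]), graph_uni hn]
      simp
    have hperf : commutator M = ⊤ := by
      refine Subgroup.map_injective M.subtype_injective ?_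
      rw [commutator_def, Subgroup.map_commutator, ← MonoidHom.range_eq_map, Subgroup.range_subtype, hMperf]
    have hzc : (⟨z, hzM⟩ : M) ∈ Subgroup.center M := Subgroup.mem_center_iff.2 fun y =>
      Subtype.ext (Subgroup.mem_center_iff.1 (hZc hz) y)
    have hmem := mem_commutator_of_perfect hperf (Pb.comap πM) hPb ⟨z, hzM⟩ hzc (Subtype.ext (hZ2 z hz))
    have hbot : ⁅Pb.comap πM, Pb.comap πM⁆ ≤ ⊥ := by
      rw [Subgroup.commutator_le]
      intro a ha b hb
      rw [Subgroup.mem_bot, commutatorElement_eq_one_iff_mul_comm]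
      exact commute_of_squares (hsqP a ha) (hsqP b hb) (hsqP _ (mul_mem ha hb))
    exact congrArg Subtype.val (Subgroup.mem_bot.1 (hbot hmem))
  have hinter : M ⊓ H = ⊥ := by
    rw [eq_bot_iff]
    rintro x ⟨hxM, hxH⟩
    obtain ⟨g, hg⟩ : π x ∈ Cb := hMmap ▸ ⟨x, hxM, rfl⟩
    have : g = 1 := row_inter_emb (show ψ (emb g) ∈ Row from hg.symm ▸ hxH)
    subst this
    rw [map_one] at hg
    exact Subgroup.mem_bot.2 (hker x hxM hg.symm)
  refine ⟨M, hML.trans hLN, hinter, le_antisymm (sup_le Subgroup.le_normalizer (hML.trans hLN)) ?_, ?_⟩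
  · intro x hx
    obtain ⟨g, hg⟩ := QuotientGroup.mk'_surjective _ (π x)
    have hgn : ψ g ∈ Subgroup.normalizer (Row (F := F) : Set (ProjectiveSpecialLinearGroup (Fin 3) F)) := by
      rw [show ψ g = π x from hg]
      refine Subgroup.mem_normalizer_iff.2 fun q => ?_
      obtain ⟨y, rfl⟩ := hπ q
      rw [← map_inv, ← map_mul, ← map_mul]
      exact Subgroup.mem_normalizer_iff.1 hx y
    obtain ⟨a, b, N, hN⟩ := mem_normalizer_row hcube hgn
    obtain ⟨m, hm, hme⟩ : ψ (emb N) ∈ M.map π := by rw [hMmap]; exact ⟨N, rfl⟩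
    have hxm : x * m⁻¹ ∈ H := by
      refine Subgroup.mem_comap.2 ⟨(a, b), ?_⟩
      show ψ (uni a b 0) = π (x * m⁻¹)
      rw [map_mul, map_inv, hme, ← show ψ g = π x from hg, hN, mul_inv_cancel_right]
    have := (H ⊔ M).mul_mem (Subgroup.mem_sup_left hxm) (Subgroup.mem_sup_right hm)
    rwa [inv_mul_cancel_right] at this
  · let f : M →* ProjectiveSpecialLinearGroup (Fin 3) F := π.comp M.subtype
    have hf : Function.Injective f := by
      rw [injective_iff_map_eq_one]
      exact fun m hm => Subtype.ext (hker m m.2 hm)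
    have hfr : f.range = Cb := by
      rw [MonoidHom.range_comp, Subgroup.range_subtype, hMmap]
    have hc : Subgroup.center (Matrix.SpecialLinearGroup (Fin 2) F) = ⊥ := by
      rw [eq_bot_iff]
      intro z hz
      obtain ⟨l, hl, hz'⟩ := Matrix.SpecialLinearGroup.mem_center_iff.1 hz
      simp only [Fintype.card_fin] at hl
      have : l = 1 := by
        rcases sq_eq_one_iff.1 hl with rfl | rfl
        · rfl
        · exact hn 1
      subst this
      exact Subgroup.mem_bot.2 (Subtype.ext (by rw [← hz']; simp))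
    exact ⟨((MonoidHom.ofInjective hf).trans ((MulEquiv.subgroupCongr hfr).trans
      (MonoidHom.ofInjective ψ_emb_injective).symm)).trans
      (QuotientGroup.quotientBot.symm.trans (QuotientGroup.quotientMulEquivOfEq hc.symm))⟩

end Cfsg.Agent.CoverThreeFour
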